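import Mathlib
import Groth.Agent.TorShift.Basic

/-!
# Lifting bases along nilpotent ideals, and freeness after base change
-/

set_option autoImplicit false
set_option synthInstance.maxHeartbeats 80000

universe u

open TensorProduct Function

namespace Groth.Agent.FlatFree

/-- A surjection onto a flat module, injective modulo a nilpotent ideal, is injective. -/
theorem injective_of_flat {A F N : Type u} [CommRing A] [AddCommGroup F] [Module A F] [AddCommGroup N] [Module A N]
    [Module.Flat A N] (φ : F →ₗ[A] N) (hφ : Surjective φ) (J : Ideal A) (hJ : IsNilpotent J)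
    (hker : LinearMap.ker φ ≤ J • ⊤) : Injective φ := by
  let K := LinearMap.ker φ
  have : Module.Flat A (F ⧸ LinearMap.range K.subtype) :=
    Module.Flat.of_linearEquiv ((Submodule.quotEquivOfEq _ _ (Submodule.range_subtype K)).trans
      (LinearMap.quotKerEquivOfSurjective φ hφ))
  have h1 : ∀ x : K, x ∈ J • (⊤ : Submodule A K) := by
    intro x
    obtain ⟨y, hy, hyx⟩ := Groth.Agent.TorShift.exists_mem_smul_top_of_flat K.subtype (x := x) (hker x.2)
    rwa [← Subtype.ext (show (y : F) = x from hyx)]
  obtain ⟨n, hn⟩ := hJ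
  have h2 : ∀ k : ℕ, (⊤ : Submodule A K) ≤ J ^ k • (⊤ : Submodule A K) := by
    intro k
    induction k with
    | zero => simp [Ideal.one_eq_top]
    | succ k ih =>
      refine ih.trans ?_
      rw [pow_succ, Submodule.mul_smul]
      exact Submodule.smul_mono le_rfl fun x _ => h1 x
  have h3 := h2 n
  rw [hn, Ideal.zero_eq_bot, Submodule.bot_smul] at h3
  rw [← LinearMap.ker_eq_bot]
  exact eq_bot_iff.2 fun x hx => (Submodule.mem_bot A).2
    (congrArg Subtype.val ((Submodule.mem_bot A).1 (h3 (Submodule.mem_top (x := (⟨x, hx⟩ : K))))))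

/-- A module free modulo a nilpotent ideal has a least ideal modulo which it is free, equivalently flat. -/
theorem exists_least_ideal {A : Type u} [CommRing A] (M : Type u) [AddCommGroup M] [Module A M]
    (J : Ideal A) (hJ : IsNilpotent J) [Module.Free (A ⧸ J) ((A ⧸ J) ⊗[A] M)] :
    ∃ R₀ : Ideal A, ∀ (A' : Type u) [CommRing A'] [Algebra A A'],
      (R₀.map (algebraMap A A') = ⊥ → Module.Free A' (A' ⊗[A] M)) ∧
      (Module.Flat A' (A' ⊗[A] M) → R₀.map (algebraMap A A') = ⊥) := by
  classical
  let e := Module.Free.chooseBasis (A ⧸ J) ((A ⧸ J) ⊗[A] M)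
  let ι := Module.Free.ChooseBasisIndex (A ⧸ J) ((A ⧸ J) ⊗[A] M)
  choose v hv using fun i => TensorProduct.mk_surjective A M (A ⧸ J) Ideal.Quotient.mk_surjective (e i)
  let φ : (ι →₀ A) →ₗ[A] M := Finsupp.linearCombination A v
  have hφ : Surjective φ := by
    have hsp : LinearMap.range φ ⊔ J • (⊤ : Submodule A M) = ⊤ := by
      rw [eq_top_iff]
      intro m _
      have h2 : (LinearMap.range φ).map (TensorProduct.mk A (A ⧸ J) M 1) = ⊤ := by
        rw [show LinearMap.range φ = Submodule.span A (Set.range v) from Finsupp.range_linearCombination (R := A) (v := v),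
          Submodule.map_span, ← Set.range_comp,
          show (TensorProduct.mk A (A ⧸ J) M 1 ∘ v : _ → _) = e from funext hv,
          ← Submodule.restrictScalars_span A (A ⧸ J) Ideal.Quotient.mk_surjective, e.span_eq,
          Submodule.restrictScalars_top]
      obtain ⟨n, hn, hnm⟩ := h2.ge (Submodule.mem_top (x := (1 : A ⧸ J) ⊗ₜ[A] m))
      have hk : m - n ∈ LinearMap.ker (TensorProduct.mk A (A ⧸ J) M 1) := by
        rw [LinearMap.mem_ker, map_sub, sub_eq_zero]
        exact hnm.symm
      replace hk := (LinearMap.ker_tensorProductMk (I := J) (Q := M)).le hk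
      simpa using Submodule.add_mem_sup hn hk
    obtain ⟨n, hn⟩ := hJ
    have : ∀ j : ℕ, LinearMap.range φ ⊔ J ^ j • (⊤ : Submodule A M) = ⊤ := by
      intro j
      induction j with
      | zero => simp [Ideal.one_eq_top]
      | succ j ih =>
        rw [eq_top_iff]
        conv_lhs => rw [← hsp]
        refine sup_le le_sup_left ?_
        conv_lhs => rw [← ih, Submodule.smul_sup, ← mul_smul, ← pow_succ']
        exact sup_le_sup_right Submodule.smul_le_right _
    have hn' := this n
    rw [hn, Ideal.zero_eq_bot, Submodule.bot_smul, sup_bot_eq, LinearMap.range_eq_top] at hn'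
    exact hn'
  let c : M →ₗ[A] (ι →₀ A ⧸ J) :=
    (e.repr.toLinearMap.restrictScalars A) ∘ₗ TensorProduct.mk A (A ⧸ J) M 1
  have hc : ∀ i, c (v i) = Finsupp.single i 1 := fun i => by
    show e.repr (TensorProduct.mk A (A ⧸ J) M 1 (v i)) = _
    rw [hv, e.repr_self]
  let R₀ : Ideal A := Ideal.span {a | ∃ k : ι →₀ A, φ k = 0 ∧ ∃ i, k i = a}
  refine ⟨R₀, fun A' _ _ => ?_⟩
  let g : A' ⊗[A] (ι →₀ A) ≃ₗ[A'] (ι →₀ A') := TensorProduct.finsuppScalarRight A A' A' ι
  have hg : ∀ (a : A') (k : ι →₀ A) i, g (a ⊗ₜ[A] k) i = k i • a := by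
    intro a k i
    simp [g]
  let φ' := φ.baseChange A'
  have hφ' : Surjective φ' := LinearMap.lTensor_surjective A' hφ
  constructor
  · intro h0
    have hinj : Injective φ' := by
      rw [injective_iff_map_eq_zero]
      intro x hx
      let : AddCommGroup (LinearMap.ker φ) := Submodule.addCommGroup _
      have hex : Exact (LinearMap.ker φ).subtype φ := fun z => by simp
      obtain ⟨y, rfl⟩ := (lTensor_exact A' hex hφ x).1 hx
      clear hx
      induction y with
      | zero => simp
      | add a b ha hb => rw [map_add, ha, hb, add_zero]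
      | tmul a k =>
        apply g.injective
        ext i
        rw [LinearMap.lTensor_tmul, Submodule.subtype_apply, hg, map_zero, Finsupp.zero_apply]
        have : algebraMap A A' ((k : ι →₀ A) i) = 0 := (Submodule.mem_bot A').1
          (h0.le (Ideal.mem_map_of_mem _ (Ideal.subset_span ⟨k.1, k.2, i, rfl⟩)))
        rw [Algebra.smul_def, this, zero_mul]
    exact Module.Free.of_equiv (g.symm.trans (LinearEquiv.ofBijective φ' ⟨hinj, hφ'⟩))
  · intro hflat
    let J' := J.map (algebraMap A A')
    let r : (A ⧸ J) →ₐ[A] A' ⧸ J' :=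
      Ideal.Quotient.liftₐ J (Algebra.ofId A (A' ⧸ J')) fun a ha => by
        show algebraMap A (A' ⧸ J') a = 0
        rw [IsScalarTower.algebraMap_apply A A' (A' ⧸ J'), Ideal.Quotient.algebraMap_eq,
          Ideal.Quotient.eq_zero_iff_mem]
        exact Ideal.mem_map_of_mem _ ha
    let c' : A' ⊗[A] M →ₗ[A'] (ι →₀ A' ⧸ J') :=
      LinearMap.liftBaseChange A' (Finsupp.mapRange.linearMap r.toLinearMap ∘ₗ c)
    have hc' : ∀ x, c' (φ' x) = Finsupp.mapRange.linearMap (Submodule.mkQ J') (g x) := by
      intro x
      induction x with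
      | zero => simp
      | add a b ha hb => simp only [map_add, ha, hb]
      | tmul a k =>
        induction k using Finsupp.induction_linear with
        | zero => simp
        | add k k' hk hk' => simp only [TensorProduct.tmul_add, map_add, hk, hk']
        | single i b =>
          ext i'
          simp only [φ', LinearMap.baseChange_tmul, φ, Finsupp.linearCombination_single, c',
            LinearMap.liftBaseChange_tmul, LinearMap.comp_apply, map_smul, hc, Finsupp.smul_apply,
            Finsupp.mapRange.linearMap_apply, Finsupp.mapRange_apply, hg, Finsupp.single_apply]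
          by_cases h : i = i'
          · simp [h, Submodule.mkQ_apply, Algebra.smul_def, mul_comm]
          · simp [h]
    have hinj : Injective φ' := by
      refine injective_of_flat φ' hφ' J' ?_ fun x hx => ?_
      · obtain ⟨n, hn⟩ := hJ
        exact ⟨n, by rw [← Ideal.map_pow, hn, Ideal.zero_eq_bot, Ideal.map_bot, Ideal.zero_eq_bot]⟩
      · have h1 : ∀ i, g x i ∈ J' := by
          intro i
          have := DFunLike.congr_fun (hc' x) i
          rw [LinearMap.mem_ker.1 hx, map_zero] at this
          exact (Submodule.Quotient.mk_eq_zero J').1 this.symm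
        have h2 : g x ∈ J' • (⊤ : Submodule A' (ι →₀ A')) := by
          rw [← Finsupp.sum_single (g x)]
          refine Submodule.sum_mem _ fun i _ => ?_
          rw [← mul_one (g x i), ← smul_eq_mul, ← Finsupp.smul_single]
          exact Submodule.smul_mem_smul (h1 i) trivial
        have h3 := Submodule.mem_map_of_mem (f := g.symm.toLinearMap) h2
        rw [Submodule.map_smul'', Submodule.map_top, LinearEquiv.range, LinearEquiv.coe_coe,
          LinearEquiv.symm_apply_apply] at h3
        exact h3
    refine eq_bot_iff.2 (Ideal.map_le_iff_le_comap.2 (Ideal.span_le.2 ?_))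
    rintro _ ⟨k, hk, i, rfl⟩
    have h0 : φ' ((1 : A') ⊗ₜ[A] k) = 0 := by simp [φ', hk]
    have h1 := DFunLike.congr_fun (congrArg g ((injective_iff_map_eq_zero φ').1 hinj _ h0)) i
    rw [hg, map_zero, Finsupp.zero_apply, Algebra.smul_def, mul_one] at h1
    exact (Submodule.mem_bot A').2 h1

/-- A flat module free modulo a nilpotent ideal is free. -/
theorem free_of_flat_of_free_quotient {A : Type u} [CommRing A] (M : Type u) [AddCommGroup M] [Module A M]
    [Module.Flat A M] (J : Ideal A) (hJ : IsNilpotent J) [Module.Free (A ⧸ J) ((A ⧸ J) ⊗[A] M)] :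
    Module.Free A M := by
  obtain ⟨R₀, h⟩ := exists_least_ideal M J hJ
  have := (h A).1 ((h A).2 (Module.Flat.of_linearEquiv (TensorProduct.lid A M)))
  exact Module.Free.of_equiv (TensorProduct.lid A M)

/-- Freeness of the base change passes along algebra maps. -/
theorem free_baseChange_of_algHom {R C D M : Type u} [CommRing R] [CommRing C] [Algebra R C] [CommRing D]
    [Algebra R D] [AddCommGroup M] [Module R M] (g : C →ₐ[R] D) [Module.Free C (C ⊗[R] M)] :
    Module.Free D (D ⊗[R] M) := by
  let : Algebra C D := g.toRingHom.toAlgebra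
  have : IsScalarTower R C D := IsScalarTower.of_algebraMap_eq fun r => (g.commutes r).symm
  exact Module.Free.of_equiv (TensorProduct.AlgebraTensorModule.cancelBaseChange R C D D M)

end Groth.Agent.FlatFree
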