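import Mathlib
import Groth.Agent.FlatLocus.Model
import Groth.Agent.FlatFibrePD.Basic

/-!
# Flatness away from a closed set of the source
-/

set_option autoImplicit false
set_option synthInstance.maxHeartbeats 80000

universe u

open TensorProduct Function

namespace Groth.Agent.FlatFree

variable {A B : Type u} [CommRing A] [CommRing B] [Algebra A B]
variable {M : Type u} [AddCommGroup M] [Module B M] [Module A M] [IsScalarTower A B M]

/-- Flatness of a localization by elements. -/
theorem flat_localized_iff_torsion (T : Submonoid B) :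
    Module.Flat A (LocalizedModule T M) ↔
      ∀ ⦃X Y : Type u⦄ [AddCommGroup X] [Module A X] [AddCommGroup Y] [Module A Y] (j : X →ₗ[A] Y), Injective j →
        ∀ z : M ⊗[A] X, TensorProduct.AlgebraTensorModule.lTensor B M j z = 0 → ∃ s ∈ T, s • z = 0 := by
  let L := Localization T
  let eM : L ⊗[B] M ≃ₗ[A] LocalizedModule T M :=
    ((LocalizedModule.equivTensorProduct T M).symm).restrictScalars A
  have key : ∀ (X Y : Type u) [AddCommGroup X] [Module A X] [AddCommGroup Y] [Module A Y] (j : X →ₗ[A] Y),
      ∀ w, TensorProduct.AlgebraTensorModule.assoc A B B L M Y (j.lTensor _ w) =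
        (TensorProduct.AlgebraTensorModule.lTensor B M j).lTensor L
          (TensorProduct.AlgebraTensorModule.assoc A B B L M X w) := by
    intro X Y _ _ _ _ j w
    induction w with
    | zero => simp
    | add a b ha hb => simp [ha, hb]
    | tmul a x =>
      induction a with
      | zero => simp
      | add a b ha hb => simp only [TensorProduct.add_tmul, map_add, ha, hb]
      | tmul l m => simp
  have hloc : ∀ (X : Type u) [AddCommGroup X] [Module A X],
      IsLocalizedModule T (TensorProduct.mk B L (M ⊗[A] X) 1) := fun X _ _ =>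
    (isLocalizedModule_iff_isBaseChange T L _).2 (TensorProduct.isBaseChange B (M ⊗[A] X) L)
  constructor
  · intro h X Y _ _ _ _ j hj z hz
    have : Module.Flat A (L ⊗[B] M) := Module.Flat.of_linearEquiv eM
    have h1 : Injective ((TensorProduct.AlgebraTensorModule.lTensor B M j).lTensor L) := by
      intro x y hxy
      obtain ⟨x, rfl⟩ := (TensorProduct.AlgebraTensorModule.assoc A B B L M X).surjective x
      obtain ⟨y, rfl⟩ := (TensorProduct.AlgebraTensorModule.assoc A B B L M X).surjective y
      rw [← key, ← key] at hxy
      exact congrArg _ (Module.Flat.lTensor_preserves_injective_linearMap (M := L ⊗[B] M) j hj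
        ((LinearEquiv.injective _) hxy))
    have h2 : TensorProduct.mk B L (M ⊗[A] X) 1 z = 0 := by
      apply h1
      rw [map_zero, TensorProduct.mk_apply, LinearMap.lTensor_tmul, hz, TensorProduct.tmul_zero]
    have := hloc X
    obtain ⟨s, hs⟩ := (IsLocalizedModule.eq_zero_iff T _).1 h2
    exact ⟨s, s.2, hs⟩
  · intro h
    have : Module.Flat A (L ⊗[B] M) := by
      refine Module.Flat.iff_lTensor_preserves_injective_linearMap.mpr fun X Y _ _ _ _ j hj => ?_
      have hg : Injective ((TensorProduct.AlgebraTensorModule.lTensor B M j).lTensor L) := by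
        rw [injective_iff_map_eq_zero]
        intro w hw
        have := hloc X
        have := hloc Y
        obtain ⟨⟨z, s⟩, hzs⟩ := IsLocalizedModule.surj T (TensorProduct.mk B L (M ⊗[A] X) 1) w
        have h0 : TensorProduct.mk B L (M ⊗[A] Y) 1 (TensorProduct.AlgebraTensorModule.lTensor B M j z) = 0 := by
          rw [TensorProduct.mk_apply, ← LinearMap.lTensor_tmul]
          change (TensorProduct.AlgebraTensorModule.lTensor B M j).lTensor L
            (TensorProduct.mk B L (M ⊗[A] X) 1 z) = 0
          rw [← hzs, Submonoid.smul_def, map_smul, hw, smul_zero]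
        obtain ⟨s', hs'⟩ := (IsLocalizedModule.eq_zero_iff T _).1 h0
        rw [Submonoid.smul_def, ← map_smul] at hs'
        obtain ⟨s'', hs'', hz⟩ := h j hj _ hs'
        have h1 : TensorProduct.mk B L (M ⊗[A] X) 1 z = 0 :=
          (IsLocalizedModule.eq_zero_iff T _).2 ⟨⟨s'', hs''⟩ * s', by
            rw [Submonoid.smul_def, Submonoid.coe_mul, mul_smul]; exact hz⟩
        rw [← hzs] at h1
        exact (IsLocalizedModule.smul_inj (TensorProduct.mk B L (M ⊗[A] X) 1) s w 0).1 (by
          rw [h1, smul_zero])
      intro x y hxy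
      refine (TensorProduct.AlgebraTensorModule.assoc A B B L M X).injective (hg ?_)
      rw [← key, ← key, hxy]
    exact Module.Flat.of_linearEquiv eM.symm

/-- A finitely presented module flat over an open set containing a basic open is flat after inverting. -/
theorem flat_localized_powers (t : B)
    (h : ∀ q : PrimeSpectrum B, t ∉ q.asIdeal → Module.Flat A (LocalizedModule q.asIdeal.primeCompl M)) :
    Module.Flat A (LocalizedModule (Submonoid.powers t) M) := by
  rw [flat_localized_iff_torsion]
  intro X Y _ _ _ _ j hj z hz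
  let I : Ideal B := LinearMap.ker (LinearMap.toSpanSingleton B (M ⊗[A] X) z)
  have hI : t ∈ I.radical := by
    rw [Ideal.radical_eq_sInf, Submodule.mem_sInf]
    intro q hq
    by_contra htq
    have := hq.2
    obtain ⟨s, hs, hsz⟩ := (flat_localized_iff_torsion (Ideal.primeCompl q)).1 (h ⟨q, hq.2⟩ htq) j hj z hz
    exact hs (hq.1 (show s ∈ I from hsz))
  obtain ⟨n, hn⟩ := hI
  exact ⟨t ^ n, ⟨n, rfl⟩, hn⟩

/-- Flatness over the localization of the base at a prime gives flatness at the points above it. -/
theorem flat_localized_of_comap_eq (p : Ideal A) [p.IsPrime]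
    [Module.Flat (Localization.AtPrime p) (LocalizedModule p.primeCompl M)]
    (q : Ideal B) [q.IsPrime] (hq : q.comap (algebraMap A B) = p) :
    Module.Flat A (LocalizedModule q.primeCompl M) := by
  rw [flat_localized_iff_torsion]
  intro X Y _ _ _ _ j hj z hz
  have : Module.Flat A (LocalizedModule p.primeCompl M) :=
    Module.Flat.trans A (Localization.AtPrime p) _
  let f := LocalizedModule.mkLinearMap p.primeCompl M
  have h1 : f.rTensor X z = 0 := by
    apply Module.Flat.lTensor_preserves_injective_linearMap (M := LocalizedModule p.primeCompl M) j hj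
    rw [map_zero, ← LinearMap.comp_apply, LinearMap.lTensor_comp_rTensor, ← LinearMap.rTensor_comp_lTensor,
      LinearMap.comp_apply]
    have : j.lTensor M z = 0 := hz
    rw [this, map_zero]
  obtain ⟨a, ha⟩ := (IsLocalizedModule.eq_zero_iff p.primeCompl
    (TensorProduct.AlgebraTensorModule.rTensor A X f)).1 h1
  refine ⟨algebraMap A B a, fun h => a.2 (hq.le (Ideal.mem_comap.2 h)), ?_⟩
  rw [algebraMap_smul]
  exact ha

variable [Algebra.FinitePresentation A B] [Module.FinitePresentation B M]

/-- Flatness at the fibre over the unique minimal prime spreads out. -/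
theorem exists_flat_away (p : Ideal A) [p.IsPrime] (hp : p ≤ nilradical A)
    [Module.Flat (Localization.AtPrime p) (LocalizedModule p.primeCompl M)] :
    ∃ t ∉ p, Module.Flat A (LocalizedModule (Submonoid.powers (algebraMap A B t)) M) := by
  obtain ⟨I, hI⟩ := (PrimeSpectrum.isClosed_iff_zeroLocus_ideal _).1
    (FlatLocus.isOpen_flatLocus (B := A) (S := B) (M := M)).isClosed_compl
  obtain ⟨t, htp, ht⟩ : ∃ t ∉ p, algebraMap A B t ∈ I ⊔ p.map (algebraMap A B) := by
    by_contra hcon
    push Not at hcon
    obtain ⟨Q, hQ, hle, hdisj⟩ := Ideal.exists_le_prime_disjoint (I ⊔ p.map (algebraMap A B))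
      (p.primeCompl.map (algebraMap A B)) (Set.disjoint_left.2 fun x hx hx' => by
        obtain ⟨r, hr, rfl⟩ := hx'
        exact hcon r hr hx)
    have hQp : Q.comap (algebraMap A B) = p := by
      refine le_antisymm (fun r hr => of_not_not fun h => Set.disjoint_left.1 hdisj hr ⟨r, h, rfl⟩) fun r hr => ?_
      exact hle (le_sup_right (a := I) (Ideal.mem_map_of_mem _ hr))
    have hmem : (⟨Q, hQ⟩ : PrimeSpectrum B) ∈ PrimeSpectrum.zeroLocus (I : Set B) := le_sup_left.trans hle
    rw [← hI] at hmem
    exact hmem (flat_localized_of_comap_eq p Q hQp)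
  refine ⟨t, htp, flat_localized_powers _ fun q hq => ?_⟩
  by_contra hflat
  have hmem : q ∈ PrimeSpectrum.zeroLocus (I : Set B) := hI ▸ hflat
  have hpq : p.map (algebraMap A B) ≤ q.asIdeal := Ideal.map_le_iff_le_comap.2
    (hp.trans (nilradical_le_prime _))
  exact hq (sup_le (show I ≤ q.asIdeal from hmem) hpq ht)

end Groth.Agent.FlatFree
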