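import Mathlib
import Groth.Agent.FlatFree.Lift
import Groth.Agent.ModModel.Basic
import Groth.Agent.GenFree.Main
import Groth.Agent.S0389

/-!
# Stratifications over which a flat finitely presented module becomes free
-/

set_option autoImplicit false
set_option synthInstance.maxHeartbeats 80000
set_option maxHeartbeats 800000

universe u

open TensorProduct Function

namespace Groth.Agent.FlatFree

/-- the `i`-th stratum ring of a list -/
abbrev Stratum {R : Type u} [CommRing R] (I : Ideal R) (f : R) : Type u :=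
  Localization.Away f ⧸ I.map (algebraMap R (Localization.Away f))

/-- An algebra map out of a stratum. -/
noncomputable def stratumMap {R D : Type u} [CommRing R] [CommRing D] [Algebra R D] (I : Ideal R) (f : R)
    (hf : IsUnit (algebraMap R D f)) (hI : I.map (algebraMap R D) = ⊥) : Stratum I f →ₐ[R] D :=
  Ideal.Quotient.liftₐ _
    { IsLocalization.Away.lift f (g := algebraMap R D) hf with
      commutes' := fun r => IsLocalization.Away.lift_eq f hf r }
    fun a ha => by
      have hle : I.map (algebraMap R (Localization.Away f)) ≤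
          RingHom.ker (IsLocalization.Away.lift f (g := algebraMap R D) hf) := by
        refine Ideal.map_le_iff_le_comap.2 fun r hr => ?_
        rw [Ideal.mem_comap, RingHom.mem_ker, IsLocalization.Away.lift_eq]
        exact (Submodule.mem_bot D).1 (hI.le (Ideal.mem_map_of_mem _ hr))
      exact hle ha

theorem isUnit_stratum {R : Type u} [CommRing R] (I : Ideal R) (f : R) :
    IsUnit (algebraMap R (Stratum I f) f) := by
  rw [IsScalarTower.algebraMap_apply R (Localization.Away f) (Stratum I f)]
  exact (IsLocalization.Away.algebraMap_isUnit f).map _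

theorem map_stratum_eq_bot {R : Type u} [CommRing R] {I I' : Ideal R} (h : I ≤ I') (f : R) :
    I.map (algebraMap R (Stratum I' f)) = ⊥ := by
  refine eq_bot_iff.2 (Ideal.map_le_iff_le_comap.2 fun r hr => ?_)
  rw [Ideal.mem_comap, Submodule.mem_bot, IsScalarTower.algebraMap_apply R (Localization.Away f) (Stratum I' f),
    Ideal.Quotient.algebraMap_eq, Ideal.Quotient.eq_zero_iff_mem]
  exact Ideal.mem_map_of_mem _ (h hr)

variable {R S M : Type u} [CommRing R] [CommRing S] [Algebra R S] [Algebra.FiniteType R S] [AddCommGroup M]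
  [Module S M] [Module R M] [IsScalarTower R S M] [Module.Finite S M]

include S in
/-- One step: over some stratum at a minimal prime of `I` a flat finite module is free. -/
theorem exists_stratum [IsNoetherianRing R] [Module.Flat R M] (I : Ideal R) (hI : I ≠ ⊤) :
    ∃ f ∉ I, Module.Free (Stratum I f) (Stratum I f ⊗[R] M) := by
  classical
  obtain ⟨m, hm, hIm⟩ := Ideal.exists_le_maximal I hI
  obtain ⟨p, hp, -⟩ := Ideal.exists_minimalPrimes_le hIm
  have : p.IsPrime := hp.1.1
  -- generic freeness over `R/p`
  let C := R ⧸ p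
  let J := p.map (algebraMap R S)
  let N := M ⧸ J • (⊤ : Submodule S M)
  have : Algebra.FiniteType C (S ⧸ J) := Algebra.FiniteType.of_restrictScalars_finiteType R C _
  let : Module C N := Module.compHom N (algebraMap C (S ⧸ J))
  have : IsScalarTower C (S ⧸ J) N := IsScalarTower.of_compHom C (S ⧸ J) N
  have : IsScalarTower R C N := IsScalarTower.of_algebraMap_smul fun r x => by
    change (algebraMap C (S ⧸ J)) (algebraMap R C r) • x = r • x
    rw [← IsScalarTower.algebraMap_apply R C (S ⧸ J), algebraMap_smul]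
  have : Module.Finite (S ⧸ J) N := Module.Finite.of_restrictScalars_finite S _ _
  obtain ⟨c, hc, hfree, -⟩ := Groth.Agent.S0389.result (R := C) (S := S ⧸ J) (M := N)
  obtain ⟨f₁, rfl⟩ := Ideal.Quotient.mk_surjective c
  -- avoid the other minimal primes
  have hfin : I.minimalPrimes.Finite := Ideal.finite_minimalPrimes_of_isNoetherianRing R I
  obtain ⟨g, hg, hgp⟩ : ∃ g, (∀ p' ∈ I.minimalPrimes, p' ≠ p → g ∈ p') ∧ g ∉ p := by
    have hnle : ¬ (hfin.toFinset.erase p).inf id ≤ p := by
      intro hle
      obtain ⟨p', hp', hp'p⟩ := (Ideal.IsPrime.inf_le' ‹p.IsPrime›).1 hle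
      rw [Finset.mem_erase, Set.Finite.mem_toFinset] at hp'
      exact hp'.1 (le_antisymm hp'p (hp.2 hp'.2.1 hp'p))
    obtain ⟨g, hg, hgp⟩ := SetLike.not_le_iff_exists.1 hnle
    refine ⟨g, fun p' hp' hne => ?_, hgp⟩
    exact (Finset.inf_le (f := id) (Finset.mem_erase.2 ⟨hne, hfin.mem_toFinset.2 hp'⟩)) hg
  let f := f₁ * g
  have hf₁ : f₁ ∉ p := fun h => hc (Ideal.Quotient.eq_zero_iff_mem.2 h)
  have hfp : f ∉ p := fun h => (hp.1.1.mem_or_mem h).elim hf₁ hgp
  refine ⟨f, fun h => hfp (hp.1.2 h), ?_⟩
  let A := Stratum I f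
  let P : Ideal A := p.map (algebraMap R A)
  have hI0 : ∀ r ∈ I, algebraMap R A r = 0 := fun r hr => by
    rw [IsScalarTower.algebraMap_apply R (Localization.Away f) A, Ideal.Quotient.algebraMap_eq,
      Ideal.Quotient.eq_zero_iff_mem]
    exact Ideal.mem_map_of_mem _ hr
  have hfA : IsUnit (algebraMap R A f) := by
    rw [IsScalarTower.algebraMap_apply R (Localization.Away f) A]
    exact (IsLocalization.Away.algebraMap_isUnit f).map _
  have hP : IsNilpotent P := by
    have hle : P ≤ nilradical A := by
      refine Ideal.map_le_iff_le_comap.2 fun r hr => ?_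
      rw [Ideal.mem_comap, mem_nilradical, nilpotent_iff_mem_prime]
      intro Q hQ
      let Q' := Q.comap (algebraMap R A)
      have hIQ : I ≤ Q' := fun x hx => by rw [Ideal.mem_comap, hI0 x hx]; exact zero_mem _
      obtain ⟨p', hp', hp'Q⟩ := Ideal.exists_minimalPrimes_le hIQ
      have hfQ : f ∉ Q' := fun h => hQ.ne_top (Ideal.eq_top_of_isUnit_mem _ h hfA)
      obtain rfl : p' = p := by_contra fun hne => hfQ (hp'Q (Ideal.mul_mem_left _ _ (hg p' hp' hne)))
      exact hp'Q hr
    obtain ⟨n, hn⟩ := IsNoetherianRing.isNilpotent_nilradical A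
    exact ⟨n, eq_bot_iff.2 ((Ideal.pow_right_mono hle n).trans hn.le)⟩
  -- freeness modulo the nilpotent ideal
  let D := A ⧸ P
  have hpD : ∀ r ∈ p, algebraMap R D r = 0 := fun r hr => by
    rw [IsScalarTower.algebraMap_apply R A D, Ideal.Quotient.algebraMap_eq, Ideal.Quotient.eq_zero_iff_mem]
    exact Ideal.mem_map_of_mem _ hr
  let C' := Localization.Away (Ideal.Quotient.mk p f₁)
  let e1 : C' ⊗[R] M ≃ₗ[C'] C' ⊗[C] N :=
    (TensorProduct.AlgebraTensorModule.cancelBaseChange R C C' C' M).symm.trans
      (TensorProduct.AlgebraTensorModule.congr (LinearEquiv.refl C' C')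
        (LinearEquiv.extendScalarsOfSurjective (S := C) Ideal.Quotient.mk_surjective
          ((TensorProduct.quotTensorEquivQuotSMul M p).trans
            ((Submodule.quotEquivOfEq _ _ (Ideal.smul_restrictScalars p ⊤).symm).trans
              (Submodule.Quotient.restrictScalarsEquiv R (J • (⊤ : Submodule S M)))))))
  have : Module.Free C' (C' ⊗[R] M) := Module.Free.of_equiv e1.symm
  let q : C →ₐ[R] D := Ideal.Quotient.liftₐ p (Algebra.ofId R D) hpD
  have hu : IsUnit (q (Ideal.Quotient.mk p f₁)) := by
    rw [← Ideal.Quotient.algebraMap_eq, AlgHom.commutes]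
    have h := hfA.map (Ideal.Quotient.mk P)
    rw [← Ideal.Quotient.algebraMap_eq, ← IsScalarTower.algebraMap_apply, map_mul] at h
    exact @isUnit_of_mul_isUnit_left D (Ideal.Quotient.commRing P).toCommMonoid.toMonoid inferInstance _ _ h
  let q' : C' →ₐ[R] D :=
    { IsLocalization.Away.lift (Ideal.Quotient.mk p f₁) (g := q.toRingHom) hu with
      commutes' := fun r => by
        show IsLocalization.Away.lift _ hu (algebraMap R C' r) = _
        rw [IsScalarTower.algebraMap_apply R C C', IsLocalization.Away.lift_eq]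
        exact q.commutes r }
  have := free_baseChange_of_algHom (R := R) (C := C') (D := D) (M := M) q'
  have : Module.Free D (D ⊗[A] (A ⊗[R] M)) :=
    Module.Free.of_equiv (TensorProduct.AlgebraTensorModule.cancelBaseChange R A D D M).symm
  exact free_of_flat_of_free_quotient (A ⊗[R] M) P hP

include S in
theorem exists_list_aux [IsNoetherianRing R] [Module.Flat R M] (I : Ideal R) :
    ∃ l : List R, I ⊔ Ideal.span {a | a ∈ l} = ⊤ ∧ ∀ (i : ℕ) (hi : i < l.length),
      Module.Free (Stratum (I ⊔ Ideal.span {a | a ∈ l.take i}) l[i])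
        (Stratum (I ⊔ Ideal.span {a | a ∈ l.take i}) l[i] ⊗[R] M) := by
  induction I using WellFoundedGT.induction with
  | _ I ih =>
    by_cases hI : I = ⊤
    · exact ⟨[], by simp [hI], fun i hi => absurd hi (by simp)⟩
    obtain ⟨f, hf, hfree⟩ := exists_stratum (S := S) (M := M) I hI
    obtain ⟨l, hl, hl'⟩ := ih (I ⊔ Ideal.span {f}) (left_lt_sup.2 fun h =>
      hf (h (Ideal.subset_span rfl)))
    have hspan : ∀ l' : List R, Ideal.span {a | a ∈ f :: l'} = Ideal.span {f} ⊔ Ideal.span {a | a ∈ l'} := by
      intro l'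
      rw [← Ideal.span_union]
      congr 1
      ext a
      simp
    refine ⟨f :: l, by rw [hspan, ← sup_assoc, hl], fun i hi => ?_⟩
    cases i with
    | zero =>
      exact free_baseChange_of_algHom (stratumMap (D := Stratum (I ⊔ Ideal.span {a | a ∈ (f :: l).take 0}) f) I f
        (isUnit_stratum _ f) (map_stratum_eq_bot le_sup_left f))
    | succ j =>
      have h0 : I ⊔ Ideal.span {a | a ∈ (f :: l).take (j + 1)} =
          I ⊔ Ideal.span {f} ⊔ Ideal.span {a | a ∈ l.take j} := by
        rw [List.take_succ_cons, hspan, sup_assoc]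
      have hj : j < l.length := by simpa using hi
      have := hl' j hj
      rw [h0]
      exact this

/-- A flat finitely presented module becomes free over the strata of a finite list generating `1`. -/
theorem exists_list {A B : Type u} [CommRing A] [CommRing B] [Algebra A B] [Algebra.FinitePresentation A B]
    (M : Type u) [AddCommGroup M] [Module B M] [Module A M] [IsScalarTower A B M] [Module.FinitePresentation B M]
    [Module.Flat A M] :
    ∃ l : List A, Ideal.span {a | a ∈ l} = ⊤ ∧ ∀ (i : ℕ) (hi : i < l.length),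
      Module.Free (Stratum (Ideal.span {a | a ∈ l.take i}) l[i])
        (Stratum (Ideal.span {a | a ∈ l.take i}) l[i] ⊗[A] M) := by
  obtain ⟨R₀, _, _, S₀, _, _, _, _, _, _, M₀, _, _, _, _, _, _, φ, hR, hS, hM, hflat, hpo, hbc⟩ :=
    ModModel.exists_model (R := A) (S := B) (M := M)
  have : Algebra.IsPushout R₀ A S₀ B := hpo
  have : IsNoetherianRing R₀ := Algebra.FiniteType.isNoetherianRing ℤ R₀
  have hA : ∀ (x : B ⊗[S₀] M₀) (a : A), hbc.equiv (a • x) = a • hbc.equiv x := by
    intro x a
    rw [← algebraMap_smul B a x, map_smul, algebraMap_smul]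
  let eB : B ⊗[S₀] M₀ ≃ₗ[A] M := { hbc.equiv with map_smul' := fun a x => hA x a }
  let e : A ⊗[R₀] M₀ ≃ₗ[A] M := (Algebra.IsPushout.cancelBaseChange R₀ A S₀ B M₀).symm.trans eB
  obtain ⟨l, hl, hl'⟩ := exists_list_aux (R := R₀) (S := S₀) (M := M₀) ⊥
  rw [bot_sup_eq] at hl
  let ρ := algebraMap R₀ A
  have himg : ∀ l' : List R₀, (Ideal.span {a | a ∈ l'}).map ρ = Ideal.span {a | a ∈ l'.map ρ} := by
    intro l'
    rw [Ideal.map_span]
    congr 1
    ext a
    simp
  refine ⟨l.map ρ, by rw [← himg, hl, Ideal.map_top], fun i hi => ?_⟩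
  have hi' : i < l.length := by simpa using hi
  let D := Stratum (Ideal.span {a | a ∈ (l.map ρ).take i}) (l.map ρ)[i]
  have hu : IsUnit (algebraMap R₀ D l[i]) := by
    rw [IsScalarTower.algebraMap_apply R₀ A D, show ρ l[i] = (l.map ρ)[i] by simp,
      IsScalarTower.algebraMap_apply A (Localization.Away (l.map ρ)[i]) D]
    exact (IsLocalization.Away.algebraMap_isUnit _).map _
  have hz : (⊥ ⊔ Ideal.span {a | a ∈ l.take i}).map (algebraMap R₀ D) = ⊥ := by
    rw [bot_sup_eq, IsScalarTower.algebraMap_eq R₀ A D, ← Ideal.map_map, himg, List.map_take,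
      IsScalarTower.algebraMap_eq A (Localization.Away (l.map ρ)[i]) D, ← Ideal.map_map,
      Ideal.Quotient.algebraMap_eq, Ideal.map_quotient_self]
  have := hl' i hi'
  have : Module.Free D (D ⊗[R₀] M₀) := free_baseChange_of_algHom (stratumMap _ _ hu hz)
  exact Module.Free.of_equiv ((TensorProduct.AlgebraTensorModule.cancelBaseChange R₀ A D D M₀).symm.trans
    (TensorProduct.AlgebraTensorModule.congr (LinearEquiv.refl D D) e))

end Groth.Agent.FlatFree
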